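
import Mathlib

/-!
# S1957 piece T57-CORE (designer helper10): the commuting-transvection trick

`N = C_G(a)`, `Q = O_2(N)` with `C_N(Q) ≤ Q`, `Q` normalizes the four-group `U = {1,a,b,ab}`,
`b, ab ∉ Q`, `a ∈ Q`.  `w ∈ N` of odd order is inverted by `b`.  Then `w = 1`.

Proof. For `x ∈ Q`: `x b x⁻¹ b⁻¹ ∈ U ∩ Q ⊆ {1, a}`, hence `b x b⁻¹ ∈ {x, x a}`.  The same holds for
`b' = w⁻¹ b w` (conjugate by `w`, which centralizes `a` and normalizes `Q`).  Hence `s = b b' = w * w`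
satisfies `s x s⁻¹ ∈ {x, x a}` and so `s * s = w ^ 4` centralizes `Q`; thus `w ^ 4 ∈ Q` is a 2-element
of odd order, so `w ^ 4 = 1` and `w = 1`.
-/

set_option autoImplicit false

namespace Cfsg.Agent.Helper10.T57

open Subgroup

variable {G : Type*} [Group G]

theorem core_eq_one (N Q U : Subgroup G) (a b w : G)
    (hQN : Q ≤ N) (hQn : ∀ n ∈ N, ∀ x ∈ Q, n * x * n⁻¹ ∈ Q) (hQ2 : IsPGroup 2 ↥Q)
    (hQc : ∀ n ∈ N, (∀ x ∈ Q, n * x = x * n) → n ∈ Q)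
    (hQU : Q ≤ normalizer (U : Set G))
    (haN : ∀ n ∈ N, n * a = a * n) (haQ : a ∈ Q)
    (hbN : b ∈ N) (hwN : w ∈ N)
    (haU : a ∈ U) (hbU : b ∈ U)
    (hUmem : ∀ u ∈ U, u = 1 ∨ u = a ∨ u = b ∨ u = a * b)
    (ha2 : a * a = 1) (hb2 : b * b = 1) (hab : a * b = b * a)
    (hbQ : b ∉ Q) (habQ : a * b ∉ Q)
    (hbw : b * w * b⁻¹ = w⁻¹)
    (m : ℕ) (hm : Odd m) (hwm : w ^ m = 1) : w = 1 := by
  have step1 : ∀ x ∈ Q, b * x * b⁻¹ = x ∨ b * x * b⁻¹ = x * a := by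
    intro x hx
    have hy : x⁻¹ ∈ Q := Q.inv_mem hx
    have hcU : x⁻¹ * b * (x⁻¹)⁻¹ * b⁻¹ ∈ U := by
      have h1 : x⁻¹ * b * (x⁻¹)⁻¹ ∈ U :=
        (Subgroup.mem_normalizer_iff.mp (hQU hy) b).mp hbU
      exact U.mul_mem h1 (U.inv_mem hbU)
    have hcQ : x⁻¹ * b * (x⁻¹)⁻¹ * b⁻¹ ∈ Q := by
      have h1 : b * (x⁻¹)⁻¹ * b⁻¹ ∈ Q := hQn b hbN _ (Q.inv_mem hy)
      have e : x⁻¹ * b * (x⁻¹)⁻¹ * b⁻¹ = x⁻¹ * (b * (x⁻¹)⁻¹ * b⁻¹) := by group
      rw [e]; exact Q.mul_mem hy h1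
    have e0 : b * x * b⁻¹ = x * (x⁻¹ * b * (x⁻¹)⁻¹ * b⁻¹) := by group
    rcases hUmem _ hcU with h | h | h | h
    · left; rw [e0, h, mul_one]
    · right; rw [e0, h]
    · exfalso; rw [h] at hcQ; exact hbQ hcQ
    · exfalso; rw [h] at hcQ; exact habQ hcQ
  have hwinvN : w⁻¹ ∈ N := N.inv_mem hwN
  have hwinv_a : w⁻¹ * a = a * w⁻¹ := haN _ hwinvN
  have hba : b * a = a * b := hab.symm
  have step2 : ∀ x ∈ Q, (w⁻¹ * b * w) * x * (w⁻¹ * b * w)⁻¹ = x ∨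
      (w⁻¹ * b * w) * x * (w⁻¹ * b * w)⁻¹ = x * a := by
    intro x hx
    have hy : w * x * w⁻¹ ∈ Q := hQn w hwN x hx
    have e : (w⁻¹ * b * w) * x * (w⁻¹ * b * w)⁻¹ = w⁻¹ * (b * (w * x * w⁻¹) * b⁻¹) * w := by
      group
    rcases step1 _ hy with h | h
    · left; rw [e, h]; group
    · right; rw [e, h]
      have e1 : w⁻¹ * (w * x * w⁻¹ * a) * w = x * (w⁻¹ * a * w) := by group
      rw [e1, hwinv_a]; group
  have hs : b * (w⁻¹ * b * w) = w * w := by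
    have h1 : b * w⁻¹ * b⁻¹ = w := by
      have h := congrArg (fun t => t⁻¹) hbw
      simp only [mul_inv_rev, inv_inv] at h
      rw [mul_assoc]; exact h
    calc b * (w⁻¹ * b * w) = (b * w⁻¹ * b⁻¹) * (b * b) * w := by group
      _ = w * w := by rw [h1, hb2, mul_one]
  have hbab : b * a * b⁻¹ = a := by rw [hba]; group
  have step3 : ∀ x ∈ Q, (w * w) * x * (w * w)⁻¹ = x ∨ (w * w) * x * (w * w)⁻¹ = x * a := by
    intro x hx
    have e : (w * w) * x * (w * w)⁻¹ =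
        b * ((w⁻¹ * b * w) * x * (w⁻¹ * b * w)⁻¹) * b⁻¹ := by
      rw [← hs]; group
    rcases step2 x hx with h | h
    · rw [e, h]; exact step1 x hx
    · rw [e, h]
      have e2 : b * (x * a) * b⁻¹ = (b * x * b⁻¹) * (b * a * b⁻¹) := by group
      rw [e2, hbab]
      rcases step1 x hx with h' | h'
      · right; rw [h']
      · left; rw [h', mul_assoc, ha2, mul_one]
  have hwwN : w * w ∈ N := N.mul_mem hwN hwN
  have hww_a : (w * w) * a * (w * w)⁻¹ = a := by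
    have h := haN _ hwwN
    rw [h]; group
  have step4 : ∀ x ∈ Q, ((w * w) * (w * w)) * x = x * ((w * w) * (w * w)) := by
    intro x hx
    have e : ((w * w) * (w * w)) * x * ((w * w) * (w * w))⁻¹ =
        (w * w) * ((w * w) * x * (w * w)⁻¹) * (w * w)⁻¹ := by group
    have hconj : ((w * w) * (w * w)) * x * ((w * w) * (w * w))⁻¹ = x := by
      rw [e]
      rcases step3 x hx with h | h
      · rw [h]; exact h
      · rw [h]
        have e2 : (w * w) * (x * a) * (w * w)⁻¹ =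
            ((w * w) * x * (w * w)⁻¹) * ((w * w) * a * (w * w)⁻¹) := by group
        rw [e2, h, hww_a, mul_assoc, ha2, mul_one]
    exact mul_inv_eq_iff_eq_mul.mp hconj
  have hg : (w * w) * (w * w) ∈ Q := hQc _ (N.mul_mem hwwN hwwN) step4
  obtain ⟨k, hk⟩ := hQ2 ⟨_, hg⟩
  have hk' : ((w * w) * (w * w)) ^ (2 ^ k) = 1 := by
    have h := congrArg Subtype.val hk
    simpa using h
  have hw4 : (w * w) * (w * w) = w ^ 4 := by
    simp only [pow_succ, pow_zero, one_mul, mul_assoc]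
  rw [hw4, ← pow_mul] at hk'
  have h1 : orderOf w ∣ 4 * 2 ^ k := orderOf_dvd_of_pow_eq_one hk'
  have h2 : orderOf w ∣ m := orderOf_dvd_of_pow_eq_one hwm
  have hcop : Nat.Coprime (4 * 2 ^ k) m := by
    have e : 4 * 2 ^ k = 2 ^ (k + 2) := by ring
    rw [e]
    exact Nat.Coprime.pow_left _ (Nat.coprime_two_left.mpr hm)
  have h3 : orderOf w ∣ 1 := by
    have h := Nat.dvd_gcd h1 h2
    rwa [hcop] at h
  exact orderOf_eq_one_iff.mp (Nat.dvd_one.mp h3)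

end Cfsg.Agent.Helper10.T57
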