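import Mathlib

/-!
# S1957 piece T57-COSET (designer helper10; proved by helper27)

`P` normalizes `U = {1, a, z, az}`, centralizes `z` but not `a`: some `g0 ∈ P` has
`g0 a g0⁻¹ = a z`, and every `g ∈ P` centralizes `a` or `g0⁻¹ g` does.
-/

set_option autoImplicit false

namespace Cfsg.Agent.Helper10.T57

open Subgroup

variable {G : Type*} [Group G]

theorem exists_g0 (P U : Subgroup G) (a z : G) (hUn : P ≤ normalizer (U : Set G)) (haU : a ∈ U)
    (hUmem : ∀ u ∈ U, u = 1 ∨ u = a ∨ u = z ∨ u = a * z) (ha1 : a ≠ 1) (haz' : a ≠ z)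
    (hzP : ∀ g ∈ P, g * z = z * g) (haP : ¬ ∀ g ∈ P, g * a = a * g) :
    ∃ g0 ∈ P, g0 * a * g0⁻¹ = a * z ∧
      ∀ g ∈ P, g * a = a * g ∨ (g0⁻¹ * g) * a = a * (g0⁻¹ * g) := by
  -- conjugates of `a` under `P`
  have key : ∀ g ∈ P, g * a * g⁻¹ = a ∨ g * a * g⁻¹ = a * z := by
    intro g hg
    have hmem : g * a * g⁻¹ ∈ U := by
      have hn := hUn hg
      have := (Subgroup.mem_normalizer_iff.mp hn a).mp haU
      exact this
    rcases hUmem _ hmem with h | h | h | h
    · exfalso
      apply ha1
      have : g * a = g := by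
        have := congrArg (fun t => t * g) h
        simpa [mul_assoc] using this
      exact mul_left_cancel (a := g) (by rw [this, mul_one])
    · exact Or.inl h
    · exfalso
      apply haz'
      have hz : g * z * g⁻¹ = z := by
        rw [hzP g hg, mul_assoc, mul_inv_cancel, mul_one]
      have h2 : g * a * g⁻¹ = g * z * g⁻¹ := by rw [h, hz]
      have h3 : g * a = g * z := mul_right_cancel h2
      exact mul_left_cancel h3
    · exact Or.inr h
  push Not at haP
  obtain ⟨g0, hg0, hne⟩ := haP
  have h0 : g0 * a * g0⁻¹ = a * z := by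
    rcases key g0 hg0 with h | h
    · exfalso
      apply hne
      have := congrArg (fun t => t * g0) h
      simpa [mul_assoc] using this
    · exact h
  refine ⟨g0, hg0, h0, ?_⟩
  intro g hg
  rcases key g hg with h | h
  · left
    have := congrArg (fun t => t * g) h
    simpa [mul_assoc] using this
  · right
    -- g0⁻¹ z g0 = z
    have hz0 : g0⁻¹ * z * g0 = z := by
      have := hzP g0 hg0
      calc g0⁻¹ * z * g0 = g0⁻¹ * (z * g0) := by rw [mul_assoc]
        _ = g0⁻¹ * (g0 * z) := by rw [this]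
        _ = z := by rw [← mul_assoc, inv_mul_cancel, one_mul]
    -- g0⁻¹ (a z) g0 = a
    have h1 : g0⁻¹ * (a * z) * g0 = a := by
      rw [← h0]
      group
    -- so g0⁻¹ * g * a = a * g0⁻¹ * g
    have h2 : g * a = a * z * g := by
      have := congrArg (fun t => t * g) h
      simpa [mul_assoc] using this
    calc g0⁻¹ * g * a = g0⁻¹ * (g * a) := by rw [mul_assoc]
      _ = g0⁻¹ * (a * z * g) := by rw [h2]
      _ = (g0⁻¹ * (a * z) * g0) * (g0⁻¹ * g) := by group
      _ = a * (g0⁻¹ * g) := by rw [h1]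

end Cfsg.Agent.Helper10.T57
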