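import Mathlib

/-!
# S1957 piece T57-CYC (designer helper10; proved by helper27)

If `Z(P) = P ⊓ C_G(P)` is cyclic and `z ≠ 1` is a central involution of `P`, every central `x ∈ P`
with `x * x = 1` is `1` or `z`.  (A cyclic group has at most 2 solutions of `x ^ 2 = 1`:
`IsCyclic.card_pow_eq_one_le`.)
-/

set_option autoImplicit false

namespace Cfsg.Agent.Helper10.T57

open Subgroup

variable {G : Type*} [Group G]

theorem central_invol_unique [Finite G] (P : Subgroup G)
    (hcyc : IsCyclic ↥(P ⊓ centralizer (P : Set G)))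
    (z : G) (hzP' : z ∈ P) (hzP : ∀ g ∈ P, g * z = z * g) (hz2 : z * z = 1) (hz1 : z ≠ 1)
    (x : G) (hxP' : x ∈ P) (hxP : ∀ g ∈ P, g * x = x * g) (hx2 : x * x = 1) : x = 1 ∨ x = z := by
  classical
  have hmemZ : ∀ y : G, y ∈ P → (∀ g ∈ P, g * y = y * g) → y ∈ P ⊓ centralizer (P : Set G) := by
    intro y hy hc
    refine Subgroup.mem_inf.mpr ⟨hy, ?_⟩
    rw [Subgroup.mem_centralizer_iff]
    intro g hg
    exact hc g hg
  let Z := ↥(P ⊓ centralizer (P : Set G))
  let _inst : Fintype Z := Fintype.ofFinite Z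
  let zz : Z := ⟨z, hmemZ z hzP' hzP⟩
  let xx : Z := ⟨x, hmemZ x hxP' hxP⟩
  have hle := IsCyclic.card_pow_eq_one_le (α := Z) (n := 2) (by norm_num)
  by_contra hcon
  push Not at hcon
  obtain ⟨hx1, hxz⟩ := hcon
  have hzz2 : zz ^ 2 = 1 := by
    apply Subtype.ext
    show z ^ 2 = 1
    rw [pow_two, hz2]
  have hxx2 : xx ^ 2 = 1 := by
    apply Subtype.ext
    show x ^ 2 = 1
    rw [pow_two, hx2]
  have h1 : (1 : Z) ≠ zz := by
    intro h
    apply hz1
    exact (congrArg Subtype.val h).symm
  have h2 : (1 : Z) ≠ xx := by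
    intro h
    apply hx1
    exact (congrArg Subtype.val h).symm
  have h3 : zz ≠ xx := by
    intro h
    apply hxz
    exact (congrArg Subtype.val h).symm
  have hsub : ({1, zz, xx} : Finset Z) ⊆ Finset.univ.filter (fun a : Z => a ^ 2 = 1) := by
    intro a ha
    simp only [Finset.mem_insert, Finset.mem_singleton] at ha
    simp only [Finset.mem_filter, Finset.mem_univ, true_and]
    rcases ha with rfl | rfl | rfl
    · exact one_pow 2
    · exact hzz2
    · exact hxx2
  have hcard : ({1, zz, xx} : Finset Z).card = 3 := by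
    rw [Finset.card_insert_of_notMem, Finset.card_insert_of_notMem, Finset.card_singleton]
    · simpa using h3
    · simp only [Finset.mem_insert, Finset.mem_singleton, not_or]
      exact ⟨h1, h2⟩
  have := Finset.card_le_card hsub
  rw [hcard] at this
  omega

end Cfsg.Agent.Helper10.T57
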