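import Mathlib

/-!
# S1957 piece T57-IDX (designer helper10)

`P` Sylow 2 in `G`, `P0 ≤ P` with `P = P0 ∪ g0 P0` (so `#P ≤ 2 #P0`), `Q` a 2-group normalized by `P0`.
Then `Q ≤ P0` or `Q` normalizes `P0`.

Proof. `T := Q ⊔ P0` is a 2-group (`IsPGroup.to_sup_of_normal_left'` or so), so `#T ≤ #P ≤ 2 #P0`.
If `Q ≰ P0` then `P0 < T`, so `P0` has index 2 in `T`, hence is normal in `T ≥ Q`.
-/

set_option autoImplicit false

namespace Cfsg.Agent.Helper10.T57

open Subgroup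

variable {G : Type*} [Group G]

theorem normalizes_P0 [Finite G] (P : Sylow 2 G) (Q P0 : Subgroup G) (g0 : G)
    (hP0 : P0 ≤ (P : Subgroup G)) (hcos : ∀ g ∈ (P : Subgroup G), g ∈ P0 ∨ g0⁻¹ * g ∈ P0)
    (hQ2 : IsPGroup 2 ↥Q) (hQP0 : P0 ≤ normalizer (Q : Set G)) :
    Q ≤ P0 ∨ Q ≤ normalizer (P0 : Set G) := by
  classical
  by_cases hQle : Q ≤ P0
  · exact Or.inl hQle
  right
  have : Fact (Nat.Prime 2) := ⟨Nat.prime_two⟩
  have hP02 : IsPGroup 2 ↥P0 := P.isPGroup'.to_le hP0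
  have hT2 : IsPGroup 2 ↥(Q ⊔ P0) := IsPGroup.to_sup_of_normal_left' hQ2 hP02 hQP0
  obtain ⟨P', hTP'⟩ := hT2.exists_le_sylow
  have hcardP' : Nat.card ↥(P' : Subgroup G) = Nat.card ↥(P : Subgroup G) := by
    rw [Sylow.card_eq_multiplicity, Sylow.card_eq_multiplicity]
  have hTP : Nat.card ↥(Q ⊔ P0) ≤ Nat.card ↥(P : Subgroup G) := by
    rw [← hcardP']
    exact Subgroup.card_le_of_le hTP'
  -- `#P ≤ 2 #P0`
  have hP2 : Nat.card ↥(P : Subgroup G) ≤ 2 * Nat.card ↥P0 := by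
    have hinj : Function.Injective (fun g : ↥(P : Subgroup G) =>
        if h : (g : G) ∈ P0 then ((false, ⟨(g : G), h⟩) : Bool × ↥P0)
        else (true, ⟨g0⁻¹ * (g : G), (hcos g g.2).resolve_left h⟩)) := by
      intro a b hab
      by_cases ha : (a : G) ∈ P0 <;> by_cases hb : (b : G) ∈ P0
      · simp only [dif_pos ha, dif_pos hb, Prod.mk.injEq, Subtype.mk.injEq, true_and] at hab
        exact Subtype.ext hab
      · simp only [dif_pos ha, dif_neg hb, Prod.mk.injEq] at hab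
        exact absurd hab.1 (by simp)
      · simp only [dif_neg ha, dif_pos hb, Prod.mk.injEq] at hab
        exact absurd hab.1 (by simp)
      · simp only [dif_neg ha, dif_neg hb, Prod.mk.injEq, Subtype.mk.injEq, true_and] at hab
        exact Subtype.ext (mul_left_cancel hab)
    have := Nat.card_le_card_of_injective _ hinj
    have hb : Nat.card Bool = 2 := by simp
    rw [Nat.card_prod, hb] at this
    exact this
  -- `P0 < T`
  have hP0T : P0 ≤ Q ⊔ P0 := le_sup_right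
  have hQT : Q ≤ Q ⊔ P0 := le_sup_left
  have hne : P0 ≠ Q ⊔ P0 := fun h => hQle (h ▸ hQT)
  have hdvd : Nat.card ↥P0 ∣ Nat.card ↥(Q ⊔ P0) := Subgroup.card_dvd_of_le hP0T
  have hP0pos : 0 < Nat.card ↥P0 := Nat.card_pos
  have hlt : Nat.card ↥P0 < Nat.card ↥(Q ⊔ P0) := by
    by_contra hcon
    exact hne (Subgroup.eq_of_le_of_card_ge hP0T (not_lt.mp hcon))
  obtain ⟨c, hc⟩ := hdvd
  have hc2 : c = 2 := by
    have h1 : 1 < c := by
      by_contra hcon
      have : c ≤ 1 := not_lt.mp hcon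
      have : Nat.card ↥P0 * c ≤ Nat.card ↥P0 * 1 := Nat.mul_le_mul_left _ this
      omega
    have h2 : c ≤ 2 := by
      by_contra hcon
      have : 3 ≤ c := by omega
      have : Nat.card ↥P0 * 3 ≤ Nat.card ↥P0 * c := Nat.mul_le_mul_left _ this
      omega
    omega
  -- index 2, hence normal in `T`
  have hidx : (P0.subgroupOf (Q ⊔ P0)).index = 2 := by
    have h1 := Subgroup.relIndex_mul_relIndex ⊥ P0 (Q ⊔ P0) bot_le hP0T
    rw [Subgroup.relIndex_bot_left, Subgroup.relIndex_bot_left, hc, hc2] at h1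
    have : P0.relIndex (Q ⊔ P0) = 2 := Nat.eq_of_mul_eq_mul_left hP0pos h1
    exact this
  have hnorm : (P0.subgroupOf (Q ⊔ P0)).Normal := Subgroup.normal_of_index_eq_two hidx
  exact hQT.trans ((Subgroup.normal_subgroupOf_iff_le_normalizer hP0T).mp hnorm)

end Cfsg.Agent.Helper10.T57
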