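import Mathlib

/-!
# S1957 piece T57-KLEIN (designer helper10): elementwise facts on a Klein four subgroup
-/

set_option autoImplicit false

namespace Cfsg.Agent.Helper10.T57

open Subgroup

variable {G : Type*} [Group G]

theorem klein_facts (U : Subgroup G) (hU4 : IsKleinFour ↥U) (a b : G) (haU : a ∈ U) (hbU : b ∈ U)
    (ha1 : a ≠ 1) (hb1 : b ≠ 1) (hab : a ≠ b) :
    a * a = 1 ∧ b * b = 1 ∧ a * b = b * a ∧ ∀ u ∈ U, u = 1 ∨ u = a ∨ u = b ∨ u = a * b := by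
  have ha2 : (⟨a, haU⟩ : ↥U) * ⟨a, haU⟩ = 1 := IsKleinFour.mul_self _
  have hb2 : (⟨b, hbU⟩ : ↥U) * ⟨b, hbU⟩ = 1 := IsKleinFour.mul_self _
  have hc : (⟨a, haU⟩ : ↥U) * ⟨b, hbU⟩ = ⟨b, hbU⟩ * ⟨a, haU⟩ :=
    mul_comm_of_exponent_two IsKleinFour.exponent_two _ _
  refine ⟨congrArg Subtype.val ha2, congrArg Subtype.val hb2, congrArg Subtype.val hc, ?_⟩
  intro u hu
  by_cases h1 : u = 1
  · left; exact h1
  by_cases h2 : u = a
  · right; left; exact h2
  by_cases h3 : u = b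
  · right; right; left; exact h3
  right; right; right
  have h4 : (⟨u, hu⟩ : ↥U) = ⟨a, haU⟩ * ⟨b, hbU⟩ :=
    IsKleinFour.eq_mul_of_ne_all (x := (⟨a, haU⟩ : ↥U)) (y := ⟨b, hbU⟩) (z := ⟨u, hu⟩)
      (fun h => ha1 (congrArg Subtype.val h)) (fun h => hb1 (congrArg Subtype.val h))
      (fun h => hab (congrArg Subtype.val h)) (fun h => h1 (congrArg Subtype.val h))
      (fun h => h2 (congrArg Subtype.val h)) (fun h => h3 (congrArg Subtype.val h))
  exact congrArg Subtype.val h4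

end Cfsg.Agent.Helper10.T57
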