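import Mathlib

/-!
# S1957 piece T57-NORM (designer helper10): `N_G(⟨a⟩) = C_G(a)` for an involution `a`
-/

set_option autoImplicit false

namespace Cfsg.Agent.Helper10.T57

open Subgroup

variable {G : Type*} [Group G]

/-- the elements of `⟨a⟩` for an involution `a` -/
theorem t57_norm_mem_zpowers (a : G) (ha2 : a * a = 1) {x : G} (hx : x ∈ zpowers a) :
    x = 1 ∨ x = a := by
  obtain ⟨k, rfl⟩ := Subgroup.mem_zpowers_iff.mp hx
  have h2 : a ^ (2 : ℤ) = 1 := by
    rw [zpow_ofNat, pow_two]
    exact ha2
  rw [zpow_eq_zpow_emod k h2]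
  rcases Int.emod_two_eq_zero_or_one k with h | h
  · left; rw [h, zpow_zero]
  · right; rw [h, zpow_one]

theorem mem_normalizer_zpowers_iff (a : G) (ha2 : a * a = 1) (ha1 : a ≠ 1) (n : G) :
    n ∈ normalizer ((zpowers a : Subgroup G) : Set G) ↔ n * a = a * n := by
  constructor
  · intro hn
    have h1 : n * a * n⁻¹ ∈ zpowers a :=
      (Subgroup.mem_normalizer_iff.mp hn a).mp (Subgroup.mem_zpowers a)
    rcases t57_norm_mem_zpowers a ha2 h1 with h | h
    · exfalso
      apply ha1
      have e : a = n⁻¹ * (n * a * n⁻¹) * n := by group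
      rw [e, h]
      group
    · have e : n * a = (n * a * n⁻¹) * n := by group
      rw [e, h]
  · intro hn
    rw [Subgroup.mem_normalizer_iff]
    have hc : ∀ x ∈ zpowers a, n * x * n⁻¹ = x := by
      intro x hx
      rcases t57_norm_mem_zpowers a ha2 hx with h | h
      · rw [h]; group
      · rw [h, hn]; group
    intro x
    constructor
    · intro hx
      rw [hc x hx]
      exact hx
    · intro hx
      have h2 := hc _ hx
      have h3 : n * x * n⁻¹ = x := mul_left_cancel (mul_right_cancel h2)
      rw [← h3]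
      exact hx

theorem zpowers_invol_isPGroup (a : G) (ha2 : a * a = 1) : IsPGroup 2 ↥(zpowers a) := by
  intro x
  refine ⟨1, ?_⟩
  apply Subtype.ext
  rw [pow_one, Subgroup.coe_pow, Subgroup.coe_one, pow_two]
  rcases t57_norm_mem_zpowers a ha2 x.2 with h | h
  · rw [h, mul_one]
  · rw [h, ha2]

end Cfsg.Agent.Helper10.T57
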