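import Mathlib

/-!
# S1957 piece T57-NOTQ (designer helper10; implemented by helper11)

If `b` inverts the nontrivial odd-order element `w ∈ N`, and `Q` is a 2-subgroup normalized by `N`,
then `b ∉ Q`.  (Else `w * b * w⁻¹ * b⁻¹ = w * w ∈ Q` is a 2-element of odd order.)
-/

set_option autoImplicit false

namespace Cfsg.Agent.Helper10.T57

open Subgroup

variable {G : Type*} [Group G]

theorem not_mem_of_inverts (N Q : Subgroup G) (b w : G)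
    (hQn : ∀ n ∈ N, ∀ x ∈ Q, n * x * n⁻¹ ∈ Q) (hQ2 : IsPGroup 2 ↥Q) (hwN : w ∈ N)
    (hbw : b * w * b⁻¹ = w⁻¹) (m : ℕ) (hm : Odd m) (hwm : w ^ m = 1) (hw1 : w ≠ 1) : b ∉ Q := by
  intro hb
  have h1 : w * b * w⁻¹ ∈ Q := hQn w hwN b hb
  have h2 : w * b * w⁻¹ * b⁻¹ ∈ Q := Q.mul_mem h1 (Q.inv_mem hb)
  have h3 : b * w⁻¹ * b⁻¹ = w := by
    have h4 : (b * w * b⁻¹)⁻¹ = b * w⁻¹ * b⁻¹ := by group
    rw [← h4, hbw, inv_inv]
  have h5 : w * b * w⁻¹ * b⁻¹ = w * w := by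
    calc w * b * w⁻¹ * b⁻¹ = w * (b * w⁻¹ * b⁻¹) := by group
      _ = w * w := by rw [h3]
  rw [h5] at h2
  obtain ⟨k, hk⟩ := hQ2 ⟨w * w, h2⟩
  have h6 : (w * w) ^ (2 ^ k) = 1 := by
    have := congrArg Subtype.val hk
    simpa using this
  have h7 : w ^ (2 ^ (k + 1)) = 1 := by
    rw [pow_succ, mul_comm, pow_mul, pow_two]
    exact h6
  have hd1 : orderOf w ∣ 2 ^ (k + 1) := orderOf_dvd_of_pow_eq_one h7
  have hd2 : orderOf w ∣ m := orderOf_dvd_of_pow_eq_one hwm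
  have hcop : Nat.Coprime (2 ^ (k + 1)) m :=
    Nat.Coprime.pow_left _ (Nat.coprime_two_left.mpr hm)
  have hd3 : orderOf w ∣ 1 := by
    have := Nat.dvd_gcd hd1 hd2
    rwa [hcop.gcd_eq_one] at this
  exact hw1 (orderOf_eq_one_iff.mp (Nat.dvd_one.mp hd3))

end Cfsg.Agent.Helper10.T57
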