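import Mathlib

/-!
# S1957 piece T57-OMEGA (designer helper10): `Ω₁(Z(P0)) ≤ U`

`P0 = C_P(a)` has index 2 in `P` (`P = P0 ∪ g0 P0`, `g0 a g0⁻¹ = a z`), `z` is the unique central
involution of `P` (`hcyc'`).  If `e ∈ Z(P0)`, `e * e = 1`, then `e ∈ {1, z, a, a z} ⊆ U`.

Proof. `e' := g0 e g0⁻¹` again lies in `Z(P0)` (note `g0⁻¹ a g0 = a z`, `g0 * g0` centralizes `a`), and
`f := e * e'` is centralized by `P0` and by `g0`, so `f` is central in `P`, `f * f = 1`, `f ∈ {1, z}`.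
If `f = 1` then `e' = e`, `e` is central in `P`, so `e ∈ {1, z}`.  If `f = z`, apply the same to
`e * a` (for which `f` becomes `z * z = 1`) to get `e * a ∈ {1, z}`.
-/

set_option autoImplicit false

namespace Cfsg.Agent.Helper10.T57

open Subgroup

variable {G : Type*} [Group G]

/-- membership in `Ω₁(Z(C_P(a)))` -/
def t57_omega_Z0 (P : Subgroup G) (a e : G) : Prop :=
  e ∈ P ∧ e * a = a * e ∧ (∀ y ∈ P, y * a = a * y → e * y = y * e) ∧ e * e = 1

section

variable (P : Subgroup G) (a z g0 : G)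
  (hcyc' : ∀ x ∈ P, (∀ g ∈ P, g * x = x * g) → x * x = 1 → x = 1 ∨ x = z)
  (hg0 : g0 ∈ P) (hg0a : g0 * a * g0⁻¹ = a * z)
  (hcos : ∀ g ∈ P, g * a = a * g ∨ (g0⁻¹ * g) * a = a * (g0⁻¹ * g))
  (hzP : ∀ g ∈ P, g * z = z * g)
  (hz2 : z * z = 1)

include hg0 hg0a hzP hz2 in
theorem t57_omega_inv_conj : g0⁻¹ * a * g0 = a * z := by
  have h1 : g0 * z * g0⁻¹ = z := by rw [hzP g0 hg0]; group
  have h2 : g0 * (a * z) * g0⁻¹ = a := by
    calc g0 * (a * z) * g0⁻¹ = (g0 * a * g0⁻¹) * (g0 * z * g0⁻¹) := by group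
      _ = (a * z) * z := by rw [hg0a, h1]
      _ = a * (z * z) := by group
      _ = a := by rw [hz2, mul_one]
  calc g0⁻¹ * a * g0 = g0⁻¹ * (g0 * (a * z) * g0⁻¹) * g0 := by rw [h2]
    _ = a * z := by group

include hg0 hg0a hzP hz2 in
/-- conjugation by `g0` preserves `C_P(a)` -/
theorem t57_omega_conj_mem (y : G) (hy : y ∈ P) (hya : y * a = a * y) :
    g0 * y * g0⁻¹ ∈ P ∧ (g0 * y * g0⁻¹) * a = a * (g0 * y * g0⁻¹) := by
  refine ⟨P.mul_mem (P.mul_mem hg0 hy) (P.inv_mem hg0), ?_⟩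
  have hinv := t57_omega_inv_conj P a z g0 hg0 hg0a hzP hz2
  have hyz : y * z = z * y := hzP y hy
  have h1 : y * (a * z) * y⁻¹ = a * z := by
    calc y * (a * z) * y⁻¹ = (y * a) * z * y⁻¹ := by group
      _ = (a * y) * z * y⁻¹ := by rw [hya]
      _ = a * (y * z) * y⁻¹ := by group
      _ = a * (z * y) * y⁻¹ := by rw [hyz]
      _ = a * z := by group
  have h2 : g0 * (a * z) * g0⁻¹ = a := by
    rw [← hinv]; group
  have h3 : (g0 * y * g0⁻¹) * a * (g0 * y * g0⁻¹)⁻¹ = a := by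
    calc (g0 * y * g0⁻¹) * a * (g0 * y * g0⁻¹)⁻¹
        = g0 * (y * (g0⁻¹ * a * g0) * y⁻¹) * g0⁻¹ := by group
      _ = g0 * (y * (a * z) * y⁻¹) * g0⁻¹ := by rw [hinv]
      _ = g0 * (a * z) * g0⁻¹ := by rw [h1]
      _ = a := h2
  calc (g0 * y * g0⁻¹) * a = ((g0 * y * g0⁻¹) * a * (g0 * y * g0⁻¹)⁻¹) * (g0 * y * g0⁻¹) := by group
    _ = a * (g0 * y * g0⁻¹) := by rw [h3]

include hg0 hg0a hzP hz2 in
/-- conjugation by `g0⁻¹` preserves `C_P(a)` -/
theorem t57_omega_conj_mem' (y : G) (hy : y ∈ P) (hya : y * a = a * y) :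
    g0⁻¹ * y * g0 ∈ P ∧ (g0⁻¹ * y * g0) * a = a * (g0⁻¹ * y * g0) := by
  refine ⟨P.mul_mem (P.mul_mem (P.inv_mem hg0) hy) hg0, ?_⟩
  have hinv := t57_omega_inv_conj P a z g0 hg0 hg0a hzP hz2
  have hyz : y * z = z * y := hzP y hy
  have h1 : y * (a * z) * y⁻¹ = a * z := by
    calc y * (a * z) * y⁻¹ = (y * a) * z * y⁻¹ := by group
      _ = (a * y) * z * y⁻¹ := by rw [hya]
      _ = a * (y * z) * y⁻¹ := by group
      _ = a * (z * y) * y⁻¹ := by rw [hyz]
      _ = a * z := by group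
  have h2 : g0⁻¹ * (a * z) * g0 = a := by
    rw [← hg0a]; group
  have h3 : (g0⁻¹ * y * g0) * a * (g0⁻¹ * y * g0)⁻¹ = a := by
    calc (g0⁻¹ * y * g0) * a * (g0⁻¹ * y * g0)⁻¹
        = g0⁻¹ * (y * (g0 * a * g0⁻¹) * y⁻¹) * g0 := by group
      _ = g0⁻¹ * (y * (a * z) * y⁻¹) * g0 := by rw [hg0a]
      _ = g0⁻¹ * (a * z) * g0 := by rw [h1]
      _ = a := h2
  calc (g0⁻¹ * y * g0) * a = ((g0⁻¹ * y * g0) * a * (g0⁻¹ * y * g0)⁻¹) * (g0⁻¹ * y * g0) := by group
    _ = a * (g0⁻¹ * y * g0) := by rw [h3]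

include hg0 hg0a hzP hz2 in
theorem t57_omega_Z0_conj (e : G) (he : t57_omega_Z0 P a e) : t57_omega_Z0 P a (g0 * e * g0⁻¹) := by
  obtain ⟨heP, hea, hec, he2⟩ := he
  obtain ⟨h1, h2⟩ := t57_omega_conj_mem P a z g0 hg0 hg0a hzP hz2 e heP hea
  refine ⟨h1, h2, ?_, ?_⟩
  · intro y hy hya
    obtain ⟨h3, h4⟩ := t57_omega_conj_mem' P a z g0 hg0 hg0a hzP hz2 y hy hya
    have h5 := hec _ h3 h4
    calc g0 * e * g0⁻¹ * y = g0 * (e * (g0⁻¹ * y * g0)) * g0⁻¹ := by group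
      _ = g0 * ((g0⁻¹ * y * g0) * e) * g0⁻¹ := by rw [h5]
      _ = y * (g0 * e * g0⁻¹) := by group
  · calc g0 * e * g0⁻¹ * (g0 * e * g0⁻¹) = g0 * (e * e) * g0⁻¹ := by group
      _ = 1 := by rw [he2]; group

theorem t57_omega_Z0_mul (e f : G) (he : t57_omega_Z0 P a e) (hf : t57_omega_Z0 P a f) :
    t57_omega_Z0 P a (e * f) := by
  obtain ⟨heP, hea, hec, he2⟩ := he
  obtain ⟨hfP, hfa, hfc, hf2⟩ := hf
  have hef : e * f = f * e := hec f hfP hfa
  refine ⟨P.mul_mem heP hfP, ?_, ?_, ?_⟩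
  · calc e * f * a = e * (f * a) := by group
      _ = e * (a * f) := by rw [hfa]
      _ = (e * a) * f := by group
      _ = (a * e) * f := by rw [hea]
      _ = a * (e * f) := by group
  · intro y hy hya
    calc e * f * y = e * (f * y) := by group
      _ = e * (y * f) := by rw [hfc y hy hya]
      _ = (e * y) * f := by group
      _ = (y * e) * f := by rw [hec y hy hya]
      _ = y * (e * f) := by group
  · calc e * f * (e * f) = e * (f * e) * f := by group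
      _ = e * (e * f) * f := by rw [hef]
      _ = (e * e) * (f * f) := by group
      _ = 1 := by rw [he2, hf2, one_mul]

include hcyc' hg0 hcos in
/-- an element of `Ω₁(Z(P0))` fixed by `g0` is `1` or `z` -/
theorem t57_omega_fixed (e : G) (he : t57_omega_Z0 P a e) (hfix : g0 * e * g0⁻¹ = e) :
    e = 1 ∨ e = z := by
  obtain ⟨heP, hea, hec, he2⟩ := he
  have heg0 : e * g0 = g0 * e := by
    calc e * g0 = (g0 * e * g0⁻¹) * g0 := by rw [hfix]
      _ = g0 * e := by group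
  apply hcyc' e heP _ he2
  intro g hg
  rcases hcos g hg with h | h
  · exact (hec g hg h).symm
  · have h1 : e * (g0⁻¹ * g) = (g0⁻¹ * g) * e :=
      hec _ (P.mul_mem (P.inv_mem hg0) hg) h
    calc g * e = g0 * ((g0⁻¹ * g) * e) := by group
      _ = g0 * (e * (g0⁻¹ * g)) := by rw [h1]
      _ = (g0 * e) * (g0⁻¹ * g) := by group
      _ = (e * g0) * (g0⁻¹ * g) := by rw [heg0]
      _ = e * g := by group

include hcyc' hg0 hg0a hcos hzP hz2 in
/-- if `e * (g0 e g0⁻¹) = 1` then `e ∈ {1, z}` -/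
theorem t57_omega_case1 (e : G) (he : t57_omega_Z0 P a e) (h1 : e * (g0 * e * g0⁻¹) = 1) :
    e = 1 ∨ e = z := by
  apply t57_omega_fixed P a z g0 hcyc' hg0 hcos e he
  have he2 := he.2.2.2
  calc g0 * e * g0⁻¹ = (e * e) * (g0 * e * g0⁻¹) := by rw [he2, one_mul]
    _ = e * (e * (g0 * e * g0⁻¹)) := by group
    _ = e := by rw [h1, mul_one]

end

theorem omega_le (P U : Subgroup G) (a z g0 : G)
    (hcyc' : ∀ x ∈ P, (∀ g ∈ P, g * x = x * g) → x * x = 1 → x = 1 ∨ x = z)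
    (hg0 : g0 ∈ P) (hg0a : g0 * a * g0⁻¹ = a * z)
    (hcos : ∀ g ∈ P, g * a = a * g ∨ (g0⁻¹ * g) * a = a * (g0⁻¹ * g))
    (haP : a ∈ P) (hzP' : z ∈ P) (hzP : ∀ g ∈ P, g * z = z * g)
    (ha2 : a * a = 1) (hz2 : z * z = 1)
    (haU : a ∈ U) (hzU : z ∈ U)
    (e : G) (heP : e ∈ P) (hea : e * a = a * e)
    (hec : ∀ y ∈ P, y * a = a * y → e * y = y * e) (he2 : e * e = 1) : e ∈ U := by
  have he : t57_omega_Z0 P a e := ⟨heP, hea, hec, he2⟩
  have haZ : t57_omega_Z0 P a a := ⟨haP, rfl, fun y _ hya => hya.symm, ha2⟩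
  have haz : a * z = z * a := hzP a haP
  set e' := g0 * e * g0⁻¹ with he'def
  have he' : t57_omega_Z0 P a e' := t57_omega_Z0_conj P a z g0 hg0 hg0a hzP hz2 e he
  have hee' : e * e' = e' * e := hec e' he'.1 he'.2.1
  have hf : t57_omega_Z0 P a (e * e') := t57_omega_Z0_mul P a e e' he he'
  -- `g0 * g0` centralizes `a`
  have hinv := t57_omega_inv_conj P a z g0 hg0 hg0a hzP hz2
  have hgg : (g0 * g0) * a = a * (g0 * g0) := by
    have h1 : g0 * z * g0⁻¹ = z := by rw [hzP g0 hg0]; group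
    have h2 : (g0 * g0) * a * (g0 * g0)⁻¹ = a := by
      calc (g0 * g0) * a * (g0 * g0)⁻¹ = g0 * (g0 * a * g0⁻¹) * g0⁻¹ := by group
        _ = g0 * (a * z) * g0⁻¹ := by rw [hg0a]
        _ = (g0 * a * g0⁻¹) * (g0 * z * g0⁻¹) := by group
        _ = (a * z) * z := by rw [hg0a, h1]
        _ = a * (z * z) := by group
        _ = a := by rw [hz2, mul_one]
    calc (g0 * g0) * a = ((g0 * g0) * a * (g0 * g0)⁻¹) * (g0 * g0) := by group
      _ = a * (g0 * g0) := by rw [h2]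
  have hegg : e * (g0 * g0) = (g0 * g0) * e := hec _ (P.mul_mem hg0 hg0) hgg
  have hfix : g0 * (e * e') * g0⁻¹ = e * e' := by
    calc g0 * (e * e') * g0⁻¹ = (g0 * e * g0⁻¹) * (((g0 * g0) * e) * (g0 * g0)⁻¹) := by
          rw [he'def]; group
      _ = e' * ((e * (g0 * g0)) * (g0 * g0)⁻¹) := by rw [hegg]
      _ = e' * e := by group
      _ = e * e' := hee'.symm
  rcases t57_omega_fixed P a z g0 hcyc' hg0 hcos (e * e') hf hfix with h | h
  · -- `e * e' = 1`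
    rcases t57_omega_case1 P a z g0 hcyc' hg0 hg0a hcos hzP hz2 e he h with h' | h'
    · rw [h']; exact U.one_mem
    · rw [h']; exact hzU
  · -- `e * e' = z`: apply case 1 to `e * a`
    have he2Z : t57_omega_Z0 P a (e * a) := t57_omega_Z0_mul P a e a he haZ
    have hez : e * z = z * e := (hzP e heP)
    have he'a : e' * a = a * e' := he'.2.1
    have key : (e * a) * (g0 * (e * a) * g0⁻¹) = 1 := by
      calc (e * a) * (g0 * (e * a) * g0⁻¹) = e * a * ((g0 * e * g0⁻¹) * (g0 * a * g0⁻¹)) := by group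
        _ = e * a * (e' * (a * z)) := by rw [hg0a]
        _ = e * (a * e') * (a * z) := by group
        _ = e * (e' * a) * (a * z) := by rw [he'a]
        _ = (e * e') * (a * a) * z := by group
        _ = z * 1 * z := by rw [h, ha2]
        _ = 1 := by rw [mul_one, hz2]
    rcases t57_omega_case1 P a z g0 hcyc' hg0 hg0a hcos hzP hz2 (e * a) he2Z key with h' | h'
    · -- e * a = 1
      have : e = a := by
        calc e = (e * a) * a := by rw [mul_assoc, ha2, mul_one]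
          _ = a := by rw [h', one_mul]
      rw [this]; exact haU
    · -- e * a = z
      have : e = z * a := by
        calc e = (e * a) * a := by rw [mul_assoc, ha2, mul_one]
          _ = z * a := by rw [h']
      rw [this]; exact U.mul_mem hzU haU

end Cfsg.Agent.Helper10.T57
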