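import Mathlib
import Cfsg.Prelude.Def_CaseTheorems
import Cfsg.Agent.Lib.Helper10.Cores

/-!
# S1957 piece T57-QDATA (designer helper10): `Q = O_2(N)` as a subgroup of `G`

Take `Q := (Cfsg.pCore 2 ↥N).map N.subtype`.
-/

set_option autoImplicit false

namespace Cfsg.Agent.Helper10.T57

open Subgroup

variable {G : Type*} [Group G]

theorem exists_Q [Finite G] (N : Subgroup G) (hN : Cfsg.IsOfCharacteristicTwo ↥N) :
    ∃ Q : Subgroup G, Q ≤ N ∧ (∀ n ∈ N, ∀ x ∈ Q, n * x * n⁻¹ ∈ Q) ∧ IsPGroup 2 ↥Q ∧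
      (∀ n ∈ N, (∀ x ∈ Q, n * x = x * n) → n ∈ Q) ∧
      (∀ c ∈ N, c * c = 1 → (∀ n ∈ N, n * c = c * n) → c ∈ Q) := by
  haveI : Fact (Nat.Prime 2) := ⟨Nat.prime_two⟩
  have hQn : (Cfsg.pCore 2 ↥N).Normal := Cfsg.Agent.Helper10.pCore_normal 2
  have hQp : IsPGroup 2 (Cfsg.pCore 2 ↥N) := Cfsg.Agent.Helper10.pCore_isPGroup 2
  have hcent : ∀ n ∈ N, (∀ x ∈ (Cfsg.pCore 2 ↥N).map N.subtype, n * x = x * n) →
      n ∈ (Cfsg.pCore 2 ↥N).map N.subtype := by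
    intro n hn hc
    have h1 : (⟨n, hn⟩ : N) ∈ Subgroup.centralizer (Cfsg.pCore 2 ↥N : Set ↥N) := by
      rw [Subgroup.mem_centralizer_iff]
      intro y hy
      apply Subtype.ext
      have := hc (y : G) ⟨y, hy, rfl⟩
      exact this.symm
    exact ⟨⟨n, hn⟩, hN h1, rfl⟩
  refine ⟨(Cfsg.pCore 2 ↥N).map N.subtype, Subgroup.map_subtype_le _, ?_, hQp.map _, hcent, ?_⟩
  · rintro n hn _ ⟨y, hy, rfl⟩
    refine ⟨⟨n, hn⟩ * y * ⟨n, hn⟩⁻¹, hQn.conj_mem y hy ⟨n, hn⟩, ?_⟩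
    simp
  · intro c hc _ hcc
    apply hcent c hc
    intro x hx
    exact (hcc x (Subgroup.map_subtype_le _ hx)).symm

end Cfsg.Agent.Helper10.T57
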