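import Mathlib
import Cfsg.Agent.Lib.Helper7.BW6

/-!
# S1957 piece T57-RED (designer helper10): reduction to an inverted element

A four-group `U` normalizing but not centralizing an odd-order subgroup `K` yields `a, b ∈ U`,
`w ∈ K`, `w ≠ 1`, with `a` centralizing and `b` inverting `w`.
Proof: strong induction on `#K`, using Brauer-Wielandt (`Cfsg.Agent.Helper7.bw_general`, `p = 2`).
-/

set_option autoImplicit false

namespace Cfsg.Agent.Helper10.T57

open Subgroup

variable {G : Type*} [Group G]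

/-- elements of a four-group square to one -/
theorem t57_red_sq (U : Subgroup G) (hU4 : IsKleinFour ↥U) {x : G} (hx : x ∈ U) : x * x = 1 := by
  have h := IsKleinFour.mul_self (⟨x, hx⟩ : ↥U)
  exact congrArg Subtype.val h

/-- a four-group is commutative -/
theorem t57_red_comm (U : Subgroup G) (hU4 : IsKleinFour ↥U) {x y : G} (hx : x ∈ U) (hy : y ∈ U) :
    x * y = y * x := by
  have h1 : (x * y) * (x * y) = 1 := t57_red_sq U hU4 (U.mul_mem hx hy)
  have h2 : x * x = 1 := t57_red_sq U hU4 hx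
  have h3 : y * y = 1 := t57_red_sq U hU4 hy
  have hx' : x⁻¹ = x := by rw [inv_eq_iff_mul_eq_one]; exact h2
  have hy' : y⁻¹ = y := by rw [inv_eq_iff_mul_eq_one]; exact h3
  have h4 : (x * y)⁻¹ = x * y := by rw [inv_eq_iff_mul_eq_one]; exact h1
  rw [mul_inv_rev, hx', hy'] at h4
  exact h4.symm

/-- two distinct non-identity elements of a four-group -/
theorem t57_red_two (U : Subgroup G) (hU4 : IsKleinFour ↥U) :
    ∃ a ∈ U, ∃ b ∈ U, a ≠ 1 ∧ b ≠ 1 ∧ a ≠ b := by
  classical
  have : Finite ↥U := Nat.finite_of_card_ne_zero (by rw [hU4.card_four]; norm_num)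
  have hcard : Nat.card ↥U = 4 := hU4.card_four
  -- an element a ≠ 1
  have h1 : ∃ a : ↥U, a ≠ 1 := by
    by_contra hcon
    push Not at hcon
    have : Subsingleton ↥U := ⟨fun x y => by rw [hcon x, hcon y]⟩
    have := Nat.card_of_subsingleton (1 : ↥U)
    omega
  obtain ⟨a, ha⟩ := h1
  have h2 : ∃ b : ↥U, b ≠ 1 ∧ b ≠ a := by
    by_contra hcon
    push Not at hcon
    let _ : Fintype ↥U := Fintype.ofFinite _
    have hsub : (Finset.univ : Finset ↥U) ⊆ {1, a} := by
      intro x _
      by_cases hx : x = 1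
      · simp [hx]
      · simp [hcon x hx]
    have hle := Finset.card_le_card hsub
    have h3 : ({1, a} : Finset ↥U).card ≤ 2 := Finset.card_le_two
    rw [Finset.card_univ, ← Nat.card_eq_fintype_card, hcard] at hle
    omega
  obtain ⟨b, hb1, hba⟩ := h2
  refine ⟨a, a.2, b, b.2, ?_, ?_, ?_⟩
  · intro h; exact ha (Subtype.ext h)
  · intro h; exact hb1 (Subtype.ext h)
  · intro h; exact hba (Subtype.ext h.symm)

/-- conjugation by a normalizing element -/
theorem t57_red_conj_mem {K : Subgroup G} {u : G} (hu : u ∈ normalizer (K : Set G)) {k : G}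
    (hk : k ∈ K) : u * k * u⁻¹ ∈ K :=
  (Subgroup.mem_normalizer_iff.mp hu k).mp hk

theorem exists_inverted [Finite G] (U : Subgroup G) (hU4 : IsKleinFour ↥U) (K : Subgroup G)
    (hK : Odd (Nat.card ↥K)) (hUK : U ≤ normalizer (K : Set G))
    (hnc : ¬ U ≤ centralizer (K : Set G)) :
    ∃ a ∈ U, ∃ b ∈ U, ∃ w ∈ K, a ≠ 1 ∧ b ≠ 1 ∧ a ≠ b ∧ w ≠ 1 ∧ a * w = w * a ∧
      b * w * b⁻¹ = w⁻¹ := by
  classical
  induction' hn : Nat.card ↥K using Nat.strong_induction_on with n ih generalizing K
  by_cases hc1 : ∃ x ∈ U, x ≠ 1 ∧ ∀ k ∈ K, x * k = k * x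
  · -- Case 1
    obtain ⟨x, hxU, hx1, hxK⟩ := hc1
    have h2 : ∃ b ∈ U, ∃ k ∈ K, b * k ≠ k * b := by
      by_contra hcon
      push Not at hcon
      apply hnc
      intro u hu
      rw [Subgroup.mem_centralizer_iff]
      intro k hk
      exact (hcon u hu k hk).symm
    obtain ⟨b, hbU, k, hkK, hbk⟩ := h2
    have hbb : b * b = 1 := t57_red_sq U hU4 hbU
    have hb' : b⁻¹ = b := by rw [inv_eq_iff_mul_eq_one]; exact hbb
    have hb1 : b ≠ 1 := by
      intro h; apply hbk; rw [h, one_mul, mul_one]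
    have hxb : x ≠ b := by
      intro h; apply hbk; rw [← h]; exact hxK k hkK
    have hconj : b * k * b⁻¹ ∈ K := t57_red_conj_mem (hUK hbU) hkK
    refine ⟨x, hxU, b, hbU, k⁻¹ * (b * k * b⁻¹), K.mul_mem (K.inv_mem hkK) hconj, hx1, hb1, hxb,
      ?_, hxK _ (K.mul_mem (K.inv_mem hkK) hconj), ?_⟩
    · intro h
      apply hbk
      have h3 : b * k * b⁻¹ = k := by
        have := congrArg (fun t => k * t) h
        simpa [mul_assoc] using this
      calc b * k = b * k * b⁻¹ * b := by group
        _ = k * b := by rw [h3]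
    · rw [hb']
      have e1 : (k⁻¹ * (b * k * b))⁻¹ = b⁻¹ * k⁻¹ * b⁻¹ * k := by group
      rw [e1, hb']
      calc b * (k⁻¹ * (b * k * b)) * b = b * k⁻¹ * b * k * (b * b) := by group
        _ = b * k⁻¹ * b * k := by rw [hbb, mul_one]
  · -- Case 2
    push Not at hc1
    obtain ⟨a, haU, b, hbU, ha1, hb1, hab⟩ := t57_red_two U hU4
    -- the centralisers are U-invariant, odd, proper
    have hinv : ∀ x ∈ U, U ≤ normalizer ((Cfsg.Agent.Helper7.cent1 K x : Subgroup G) : Set G) := by
      intro x hx u hu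
      rw [Subgroup.mem_normalizer_iff]
      intro y
      rw [Cfsg.Agent.Helper7.mem_cent1, Cfsg.Agent.Helper7.mem_cent1]
      have hux : u * x = x * u := t57_red_comm U hU4 hu hx
      constructor
      · rintro ⟨hy, hxy⟩
        refine ⟨t57_red_conj_mem (hUK hu) hy, ?_⟩
        calc x * (u * y * u⁻¹) = u * (x * y) * u⁻¹ := by
              rw [← mul_assoc, ← mul_assoc, ← hux]; group
          _ = u * (y * x) * u⁻¹ := by rw [hxy]
          _ = u * y * u⁻¹ * x := by
              have : x * u⁻¹ = u⁻¹ * x := ((Commute.inv_left (show Commute u x from hux)).eq).symm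
              rw [mul_assoc u y, mul_assoc u (y * x), mul_assoc y x, this]; group
      · rintro ⟨hy, hxy⟩
        have hy' : y ∈ K := by
          have := t57_red_conj_mem (hUK (U.inv_mem hu)) hy
          simpa [mul_assoc] using this
        refine ⟨hy', ?_⟩
        have hux' : u⁻¹ * x = x * u⁻¹ := (Commute.inv_left (show Commute u x from hux)).eq
        calc x * y = u⁻¹ * (x * (u * y * u⁻¹)) * u := by
              rw [← mul_assoc u⁻¹, hux']; group
          _ = u⁻¹ * ((u * y * u⁻¹) * x) * u := by rw [hxy]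
          _ = y * x := by
              have : x * u = u * x := hux.symm
              rw [mul_assoc, mul_assoc (u * y * u⁻¹), this]; group
    have hodd : ∀ x, Odd (Nat.card ↥(Cfsg.Agent.Helper7.cent1 K x)) := fun x =>
      Odd.of_dvd_nat hK (Subgroup.card_dvd_of_le (Cfsg.Agent.Helper7.cent1_le K x))
    have hlt : ∀ x ∈ U, x ≠ 1 → Nat.card ↥(Cfsg.Agent.Helper7.cent1 K x) < n := by
      intro x hx hx1
      obtain ⟨k, hk, hxk⟩ := hc1 x hx hx1
      rw [← hn]
      have hle : Cfsg.Agent.Helper7.cent1 K x ≤ K := Cfsg.Agent.Helper7.cent1_le K x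
      have hne : Cfsg.Agent.Helper7.cent1 K x ≠ K := by
        intro h
        have : k ∈ Cfsg.Agent.Helper7.cent1 K x := by rw [h]; exact hk
        rw [Cfsg.Agent.Helper7.mem_cent1] at this
        exact hxk this.2
      exact lt_of_le_of_ne (Subgroup.card_le_of_le hle)
        (fun h => hne (Subgroup.eq_of_le_of_card_ge hle h.ge))
    by_cases hc2 : ∃ x ∈ U, x ≠ 1 ∧ ¬ U ≤ centralizer ((Cfsg.Agent.Helper7.cent1 K x : Subgroup G) : Set G)
    · obtain ⟨x, hxU, hx1, hxnc⟩ := hc2
      obtain ⟨a', ha', b', hb', w, hw, h1, h2, h3, h4, h5, h6⟩ :=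
        ih _ (hlt x hxU hx1) (Cfsg.Agent.Helper7.cent1 K x) (hodd x) (hinv x hxU) hxnc rfl
      exact ⟨a', ha', b', hb', w, Cfsg.Agent.Helper7.cent1_le K x hw, h1, h2, h3, h4, h5, h6⟩
    · push Not at hc2
      exfalso
      -- all three centralisers coincide with cent2 K a b
      have hcU : ∀ x ∈ U, x ≠ 1 → ∀ y ∈ Cfsg.Agent.Helper7.cent1 K x, ∀ u ∈ U, u * y = y * u := by
        intro x hx hx1 y hy u hu
        have := hc2 x hx hx1 hu
        rw [Subgroup.mem_centralizer_iff] at this
        exact (this y hy).symm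
      have habU : a * b ∈ U := U.mul_mem haU hbU
      have hab1 : a * b ≠ 1 := by
        intro h
        apply hab
        have hbb : b * b = 1 := t57_red_sq U hU4 hbU
        calc a = a * (b * b) := by rw [hbb, mul_one]
          _ = (a * b) * b := by rw [mul_assoc]
          _ = b := by rw [h, one_mul]
      have heq : ∀ x ∈ U, x ≠ 1 → Cfsg.Agent.Helper7.cent1 K x = Cfsg.Agent.Helper7.cent2 K a b := by
        intro x hx hx1
        ext y
        rw [Cfsg.Agent.Helper7.mem_cent2]
        constructor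
        · intro hy
          exact ⟨Cfsg.Agent.Helper7.cent1_le K x hy, hcU x hx hx1 y hy a haU, hcU x hx hx1 y hy b hbU⟩
        · rintro ⟨hyK, hya, hyb⟩
          have hyA : y ∈ Cfsg.Agent.Helper7.cent1 K a := by
            rw [Cfsg.Agent.Helper7.mem_cent1]; exact ⟨hyK, hya⟩
          rw [Cfsg.Agent.Helper7.mem_cent1]
          exact ⟨hyK, hcU a haU ha1 y hyA x hx⟩
      have hbw := Cfsg.Agent.Helper7.bw_general (H := G) 2 (hp := ⟨Nat.prime_two⟩)
        (t57_red_comm U hU4 haU hbU)
        (by rw [pow_two]; exact t57_red_sq U hU4 haU) (by rw [pow_two]; exact t57_red_sq U hU4 hbU) K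
        (by intro h; exact (Nat.not_even_iff_odd.mpr hK) (even_iff_two_dvd.mpr h))
        (hUK haU) (hUK hbU)
      unfold Cfsg.Agent.Helper7.bwL Cfsg.Agent.Helper7.bwR at hbw
      rw [Finset.prod_range_succ, Finset.prod_range_succ, Finset.prod_range_one] at hbw
      have g0 : Cfsg.Agent.Helper7.gfam 2 a b 0 = a := by
        unfold Cfsg.Agent.Helper7.gfam; simp
      have g1 : Cfsg.Agent.Helper7.gfam 2 a b 1 = a * b := by
        unfold Cfsg.Agent.Helper7.gfam; simp
      have g2 : Cfsg.Agent.Helper7.gfam 2 a b 2 = b := by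
        unfold Cfsg.Agent.Helper7.gfam; simp
      rw [g0, g1, g2, heq a haU ha1, heq (a * b) habU hab1, heq b hbU hb1] at hbw
      set c := Nat.card ↥(Cfsg.Agent.Helper7.cent2 K a b) with hc
      have hcpos : 0 < c := Nat.card_pos
      have hKc : Nat.card ↥K = c := by
        have h1 : Nat.card ↥K * c ^ 2 = c * c ^ 2 := by rw [hbw]; ring
        exact Nat.eq_of_mul_eq_mul_right (by positivity) h1
      have hKeq : Cfsg.Agent.Helper7.cent2 K a b = K :=
        Subgroup.eq_of_le_of_card_ge (Cfsg.Agent.Helper7.cent2_le K a b) (by rw [hKc])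
      obtain ⟨k, hk, hak⟩ := hc1 a haU ha1
      apply hak
      have : k ∈ Cfsg.Agent.Helper7.cent2 K a b := by rw [hKeq]; exact hk
      rw [Cfsg.Agent.Helper7.mem_cent2] at this
      exact this.2.1

end Cfsg.Agent.Helper10.T57
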