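import Mathlib

/-!
# S1957 piece T57-SYLA (designer helper10)

A 2-subgroup `Q` normalized by `N ≥ P`, `P` a Sylow 2-subgroup of `G`, lies in `P`
(`Q ⊔ P` is a 2-group; `Sylow.is_maximal'`).
-/

set_option autoImplicit false

namespace Cfsg.Agent.Helper10.T57

open Subgroup

variable {G : Type*} [Group G]

theorem Q_le_sylow [Finite G] (P : Sylow 2 G) (N Q : Subgroup G) (hPN : (P : Subgroup G) ≤ N)
    (hQn : ∀ n ∈ N, ∀ x ∈ Q, n * x * n⁻¹ ∈ Q) (hQ2 : IsPGroup 2 ↥Q) : Q ≤ (P : Subgroup G) := by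
  have hPnorm : (P : Subgroup G) ≤ normalizer (Q : Set G) := by
    intro n hn
    have hnN : n ∈ N := hPN hn
    rw [mem_normalizer_iff]
    intro x
    constructor
    · exact hQn n hnN x
    · intro hx
      have h1 := hQn n⁻¹ (N.inv_mem hnN) _ hx
      have h2 : n⁻¹ * (n * x * n⁻¹) * n⁻¹⁻¹ = x := by group
      rwa [h2] at h1
  have h2grp : IsPGroup 2 ↥(Q ⊔ (P : Subgroup G)) :=
    IsPGroup.to_sup_of_normal_left' hQ2 P.isPGroup' hPnorm
  have heq : Q ⊔ (P : Subgroup G) = (P : Subgroup G) := P.is_maximal' h2grp le_sup_right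
  rw [← heq]
  exact le_sup_left

end Cfsg.Agent.Helper10.T57
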