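import Mathlib
import Cfsg.Agent.Lib.Helper19.PGroupBasic

/-!
# S1957 piece T57-ZEX (designer helper10; proof helper9)

A four-group `U` normal in the 2-group `P` contains a nontrivial element central in `P`
(a nontrivial normal subgroup of a `p`-group meets the centre).
-/

set_option autoImplicit false

namespace Cfsg.Agent.Helper10.T57

open Subgroup

variable {G : Type*} [Group G]

theorem exists_central [Finite G] (P : Sylow 2 G) (U : Subgroup G) (hUP : U ≤ (P : Subgroup G))
    (hUn : (P : Subgroup G) ≤ normalizer (U : Set G)) (hU4 : IsKleinFour ↥U) :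
    ∃ z ∈ U, z ≠ 1 ∧ ∀ g ∈ (P : Subgroup G), g * z = z * g := by
  haveI : Fact (Nat.Prime 2) := ⟨Nat.prime_two⟩
  haveI hn : (U.subgroupOf (P : Subgroup G)).Normal :=
    (Subgroup.normal_subgroupOf_iff_le_normalizer hUP).2 hUn
  have hne : U.subgroupOf (P : Subgroup G) ≠ ⊥ := by
    intro h
    have h1 : Nat.card ↥(U.subgroupOf (P : Subgroup G)) = Nat.card ↥U :=
      Nat.card_congr (Subgroup.subgroupOfEquivOfLe hUP).toEquiv
    rw [h, Subgroup.card_bot, hU4.card_four] at h1
    omega
  have h := Cfsg.Agent.Helper19.normal_inf_center_ne_bot P.isPGroup'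
    (U.subgroupOf (P : Subgroup G)) hne
  obtain ⟨⟨x, hx⟩, hx1⟩ := (Subgroup.ne_bot_iff_exists_ne_one).1 h
  rw [Subgroup.mem_inf] at hx
  refine ⟨(x : G), Subgroup.mem_subgroupOf.1 hx.1, ?_, ?_⟩
  · intro h1
    apply hx1
    apply Subtype.ext
    apply Subtype.ext
    exact h1
  · intro g hg
    have h2 := Subgroup.mem_center_iff.1 hx.2 ⟨g, hg⟩
    exact congrArg Subtype.val h2

end Cfsg.Agent.Helper10.T57
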